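import Mathlib

/-!
Point and set stabilisers in the alternating group of degree seven.
-/

set_option autoImplicit false
set_option linter.style.haveILetI false

namespace H62
namespace M23A7

open Equiv Subgroup

/-- The alternating group of degree seven. -/
abbrev A7 : Type := ↥(alternatingGroup (Fin 7))

theorem card_A7 : Nat.card A7 = 2520 := by
  rw [nat_card_alternatingGroup, Nat.card_fin]
  norm_num [Nat.factorial]

/-- A point stabiliser. -/
def ptSt (i : Fin 7) : Subgroup A7 := MulAction.stabilizer A7 i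

theorem mem_ptSt {i : Fin 7} {g : A7} : g ∈ ptSt i ↔ (g : Perm (Fin 7)) i = i := Iff.rfl

/-- A set stabiliser. -/
def setSt (T : Finset (Fin 7)) : Subgroup A7 where
  carrier := {g | ∀ x, (g : Perm (Fin 7)) x ∈ T ↔ x ∈ T}
  one_mem' := fun x => by simp
  mul_mem' := fun {a b} ha hb x => by
    rw [Subgroup.coe_mul, Perm.mul_apply]
    exact (ha _).trans (hb x)
  inv_mem' := fun {a} ha x => by
    refine Iff.trans (ha _).symm ?_
    simp

theorem mem_setSt {T : Finset (Fin 7)} {g : A7} :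
    g ∈ setSt T ↔ ∀ x, (g : Perm (Fin 7)) x ∈ T ↔ x ∈ T := Iff.rfl

theorem setSt_compl (T : Finset (Fin 7)) : setSt Tᶜ = setSt T := by
  ext g
  simp only [mem_setSt, Finset.mem_compl, not_iff_not]

theorem mem_setSt_of {T : Finset (Fin 7)} {g : A7} (h : ∀ x ∈ T, (g : Perm (Fin 7)) x ∈ T) :
    g ∈ setSt T := by
  have e : T.map (g : Perm (Fin 7)).toEmbedding = T := by
    refine Finset.eq_of_subset_of_card_le (fun y hy => ?_) (by rw [Finset.card_map])
    obtain ⟨x, hx, rfl⟩ := Finset.mem_map.1 hy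
    exact h x hx
  intro x
  conv_lhs => rw [← e]
  simp

theorem ptSt_eq_setSt (i : Fin 7) : ptSt i = setSt {i} := by
  ext g
  refine ⟨fun h => mem_setSt_of fun x hx => ?_, fun h => ?_⟩
  · rw [Finset.mem_singleton] at hx ⊢; rw [hx]; exact mem_ptSt.1 h
  · rw [mem_ptSt]
    exact Finset.mem_singleton.1 ((h i).2 (Finset.mem_singleton_self i))

theorem exists_map {k : ℕ} (hk : k ≤ 5) (a b : Fin k → Fin 7) (ha : Function.Injective a)
    (hb : Function.Injective b) : ∃ g : A7, ∀ j, (g : Perm (Fin 7)) (a j) = b j := by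
  have h7 : Nat.card (Fin 7) - 2 = 5 := by rw [Nat.card_fin]
  haveI : MulAction.IsMultiplyPretransitive A7 (Fin 7) k := by
    have := alternatingGroup.isMultiplyPretransitive (Fin 7)
    apply MulAction.isMultiplyPretransitive_of_le (n := Nat.card (Fin 7) - 2)
    · exact h7 ▸ hk
    · exact Nat.sub_le _ _
  obtain ⟨g, hg⟩ := MulAction.exists_smul_eq A7 (⟨a, ha⟩ : Fin k ↪ Fin 7) ⟨b, hb⟩
  exact ⟨g, fun j => congrArg (fun f : Fin k ↪ Fin 7 => f j) hg⟩

theorem card_fixing {k : ℕ} (hk : k ≤ 5) (f : Fin k ↪ Fin 7) :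
    Nat.card (MulAction.stabilizer A7 f) * Nat.descFactorial 7 k = 2520 := by
  have h := (MulAction.stabilizer A7 f).card_mul_index
  rw [MulAction.index_stabilizer, card_A7] at h
  have ho : MulAction.orbit A7 f = Set.univ := by
    refine Set.eq_univ_of_forall fun g => ?_
    obtain ⟨x, hx⟩ := exists_map hk f g f.injective g.injective
    exact ⟨x, Function.Embedding.ext hx⟩
  erw [ho] at h
  rwa [Set.ncard_univ, Nat.card_eq_fintype_card (α := Fin k ↪ Fin 7),
    Fintype.card_embedding_eq, Fintype.card_fin, Fintype.card_fin] at h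

theorem card_inf_ptSt (K : Subgroup A7) (i : Fin 7) :
    Nat.card (K ⊓ ptSt i : Subgroup A7) * Nat.card {x : Fin 7 // ∃ g ∈ K, (g : Perm (Fin 7)) i = x} =
      Nat.card K := by
  have h := (MulAction.stabilizer K i).card_mul_index
  rw [MulAction.index_stabilizer, ← Nat.card_coe_set_eq] at h
  rw [← h]
  congr 1
  · exact Nat.card_congr
      { toFun := fun g => ⟨⟨g.1, (mem_inf.1 g.2).1⟩, (mem_inf.1 g.2).2⟩
        invFun := fun g => ⟨g.1.1, mem_inf.2 ⟨g.1.2, g.2⟩⟩
        left_inv := fun g => rfl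
        right_inv := fun g => rfl }
  · exact Nat.card_congr (Equiv.subtypeEquivRight fun x =>
      ⟨fun ⟨g, hg, e⟩ => ⟨⟨g, hg⟩, e⟩, fun ⟨g, e⟩ => ⟨g.1, g.2, e⟩⟩)

/-- The number of elements fixing a set. -/
theorem card_setSt_mul (T : Finset (Fin 7)) {k : ℕ} (hk : T.card = k) (hk5 : k ≤ 5) :
    Nat.card (setSt T) * Nat.descFactorial 7 k = 2520 * k.factorial := by
  let f : Fin k ↪ Fin 7 := (T.orderEmbOfFin hk).toEmbedding
  have hf : ∀ j, f j ∈ T := fun j => Finset.orderEmbOfFin_mem T hk j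
  have hrange : ∀ x ∈ T, ∃ j, f j = x := fun x hx => by
    have : x ∈ Set.range (T.orderEmbOfFin hk) := by rw [Finset.range_orderEmbOfFin]; exact hx
    exact this
  have h := (MulAction.stabilizer (setSt T) f).card_mul_index
  rw [MulAction.index_stabilizer, ← Nat.card_coe_set_eq] at h
  have h1 : Nat.card (MulAction.stabilizer (setSt T) f) = Nat.card (MulAction.stabilizer A7 f) := by
    have hin : ∀ g : A7, g • f = f → g ∈ setSt T := fun g hg => mem_setSt_of fun x hx => by
      obtain ⟨j, rfl⟩ := hrange x hx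
      rw [show (g : Perm (Fin 7)) (f j) = f j from congrArg (fun e : Fin k ↪ Fin 7 => e j) hg]
      exact hx
    exact Nat.card_congr
      { toFun := fun g => ⟨g.1.1, g.2⟩
        invFun := fun g => ⟨⟨g.1, hin g.1 g.2⟩, g.2⟩
        left_inv := fun g => rfl
        right_inv := fun g => rfl }
  have h2 : Nat.card (MulAction.orbit (setSt T) f) = k.factorial := by
    have e : MulAction.orbit (setSt T) f = {e : Fin k ↪ Fin 7 | ∀ j, e j ∈ T} := by
      ext e
      constructor
      · rintro ⟨g, rfl⟩ j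
        exact (mem_setSt.1 g.2 _).2 (hf j)
      · intro he
        obtain ⟨x, hx⟩ := exists_map hk5 f e f.injective e.injective
        refine ⟨⟨x, mem_setSt_of fun y hy => ?_⟩, Function.Embedding.ext hx⟩
        obtain ⟨j, rfl⟩ := hrange y hy
        rw [hx]
        exact he j
    rw [e]
    have q : {e : Fin k ↪ Fin 7 // ∀ j, e j ∈ T} ≃ (Fin k ↪ T) :=
      { toFun := fun e => ⟨fun j => ⟨e.1 j, e.2 j⟩, fun a b hab => e.1.injective (congrArg Subtype.val hab)⟩
        invFun := fun e => ⟨e.trans (Function.Embedding.subtype _), fun j => (e j).2⟩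
        left_inv := fun e => rfl
        right_inv := fun e => rfl }
    rw [Set.coe_ofPred, Nat.card_congr q, Nat.card_eq_fintype_card, Fintype.card_embedding_eq,
      Fintype.card_coe, hk, Fintype.card_fin, Nat.descFactorial_self]
  rw [h1] at h
  erw [h2] at h
  rw [← h, mul_right_comm, card_fixing hk5]

theorem card_ptSt (i : Fin 7) : Nat.card (ptSt i) = 360 := by
  have h := card_setSt_mul {i} (Finset.card_singleton i) (by norm_num)
  rw [← ptSt_eq_setSt] at h
  norm_num [Nat.descFactorial, Nat.factorial] at h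
  omega

theorem card_setSt {T : Finset (Fin 7)} (hT : T.card = 3) : Nat.card (setSt T) = 72 := by
  have h := card_setSt_mul T hT (by norm_num)
  norm_num [Nat.descFactorial, Nat.factorial] at h
  omega

theorem card_setSt_two {T : Finset (Fin 7)} (hT : T.card = 2) : Nat.card (setSt T) = 120 := by
  have h := card_setSt_mul T hT (by norm_num)
  norm_num [Nat.descFactorial, Nat.factorial] at h
  omega

theorem two_inj {α : Type*} {a b : α} (h : a ≠ b) : Function.Injective ![a, b] := by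
  intro x y
  fin_cases x <;> fin_cases y <;> simp [h, Ne.symm h]

theorem three_inj {α : Type*} {a b c : α} (hab : a ≠ b) (hac : a ≠ c) (hbc : b ≠ c) :
    Function.Injective ![a, b, c] := by
  intro x y
  fin_cases x <;> fin_cases y <;> simp [hab, hac, hbc, Ne.symm hab, Ne.symm hac, Ne.symm hbc]

theorem pair_trans {i j k : Fin 7} (hj : j ≠ i) (hk : k ≠ i) :
    ∃ g ∈ ptSt i, (g : Perm (Fin 7)) j = k := by
  obtain ⟨g, hg⟩ := exists_map (k := 2) (by norm_num) ![i, j] ![i, k] (two_inj hj.symm) (two_inj hk.symm)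
  exact ⟨g, mem_ptSt.2 (hg 0), hg 1⟩

theorem card_two_points {i l : Fin 7} (h : i ≠ l) :
    Nat.card (ptSt i ⊓ ptSt l : Subgroup A7) = 60 := by
  have h1 := card_inf_ptSt (ptSt i) l
  have h2 : Nat.card {x : Fin 7 // ∃ g ∈ ptSt i, (g : Perm (Fin 7)) l = x} = 6 := by
    rw [Nat.card_congr (Equiv.subtypeEquivRight (q := fun x => x ≠ i) fun x => ⟨?_, ?_⟩)]
    · simp [Nat.card_eq_fintype_card, Fintype.card_subtype_compl]
    · rintro ⟨g, hg, rfl⟩ e
      exact h ((g : Perm (Fin 7)).injective ((mem_ptSt.1 hg).trans e.symm))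
    · exact fun hx => pair_trans h.symm hx
  rw [h2, card_ptSt] at h1
  omega

theorem set_trans_out {T : Finset (Fin 7)} (hT : T.card = 3) {i j : Fin 7} (hi : i ∉ T) (hj : j ∉ T) :
    ∃ g ∈ setSt T, (g : Perm (Fin 7)) i = j := by
  obtain ⟨a, b, c, hab, hac, hbc, rfl⟩ := Finset.card_eq_three.1 hT
  simp only [Finset.mem_insert, Finset.mem_singleton, not_or] at hi hj
  have inj : ∀ x, x ≠ a → x ≠ b → x ≠ c → Function.Injective ![a, b, c, x] := by
    intro x h1 h2 h3 p q
    fin_cases p <;> fin_cases q <;>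
      simp [hab, hac, hbc, Ne.symm hab, Ne.symm hac, Ne.symm hbc, h1, h2, h3, Ne.symm h1, Ne.symm h2, Ne.symm h3]
  obtain ⟨g, hg⟩ := exists_map (k := 4) (by norm_num) ![a, b, c, i] ![a, b, c, j]
    (inj i hi.1 hi.2.1 hi.2.2) (inj j hj.1 hj.2.1 hj.2.2)
  refine ⟨g, mem_setSt_of fun x hx => ?_, hg 3⟩
  simp only [Finset.mem_insert, Finset.mem_singleton] at hx ⊢
  rcases hx with rfl | rfl | rfl
  · exact Or.inl (hg 0)
  · exact Or.inr (Or.inl (hg 1))
  · exact Or.inr (Or.inr (hg 2))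

theorem exists_cycle_on {T : Finset (Fin 7)} (hT : T.card = 3) {i j : Fin 7} (hi : i ∈ T) (hj : j ∈ T)
    (hij : i ≠ j) : ∃ g ∈ setSt T, (g : Perm (Fin 7)) i = j ∧
      ∀ x ∈ T, (g : Perm (Fin 7)) x ≠ x := by
  obtain ⟨c, hc⟩ : ∃ c, c ∈ (T.erase i).erase j := by
    apply Finset.card_pos.1
    rw [Finset.card_erase_of_mem (Finset.mem_erase.2 ⟨hij.symm, hj⟩), Finset.card_erase_of_mem hi, hT]
    norm_num
  simp only [Finset.mem_erase] at hc
  have hset : T = {i, j, c} := (Finset.eq_of_subset_of_card_le (by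
    intro x hx
    simp only [Finset.mem_insert, Finset.mem_singleton] at hx
    rcases hx with rfl | rfl | rfl
    exacts [hi, hj, hc.2.2]) (by simp [hT, hij, Ne.symm hc.2.1, Ne.symm hc.1])).symm
  obtain ⟨g, hg⟩ := exists_map (k := 3) (by norm_num) ![i, j, c] ![j, c, i]
    (three_inj hij (Ne.symm hc.2.1) (Ne.symm hc.1))
    (three_inj (Ne.symm hc.1) hij.symm hc.2.1)
  have e0 : (g : Perm (Fin 7)) i = j := hg 0
  have e1 : (g : Perm (Fin 7)) j = c := hg 1
  have e2 : (g : Perm (Fin 7)) c = i := hg 2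
  refine ⟨g, mem_setSt_of fun x hx => ?_, e0, fun x hx => ?_⟩
  · rw [hset] at hx ⊢
    simp only [Finset.mem_insert, Finset.mem_singleton] at hx ⊢
    rcases hx with rfl | rfl | rfl
    exacts [Or.inr (Or.inl e0), Or.inr (Or.inr e1), Or.inl e2]
  · rw [hset] at hx
    simp only [Finset.mem_insert, Finset.mem_singleton] at hx
    rcases hx with rfl | rfl | rfl
    · rw [e0]; exact hij.symm
    · rw [e1]; exact hc.1
    · rw [e2]; exact Ne.symm hc.2.1

theorem set_trans_in {T : Finset (Fin 7)} (hT : T.card = 3) {i j : Fin 7} (hi : i ∈ T) (hj : j ∈ T) :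
    ∃ g ∈ setSt T, (g : Perm (Fin 7)) i = j := by
  by_cases hij : i = j
  · exact ⟨1, one_mem _, by simp [hij]⟩
  · obtain ⟨g, hg, h, -⟩ := exists_cycle_on hT hi hj hij
    exact ⟨g, hg, h⟩

theorem card_pt_set_out {T : Finset (Fin 7)} (hT : T.card = 3) {i : Fin 7} (hi : i ∉ T) :
    Nat.card (ptSt i ⊓ setSt T : Subgroup A7) = 18 := by
  have h1 := card_inf_ptSt (setSt T) i
  have h2 : Nat.card {x : Fin 7 // ∃ g ∈ setSt T, (g : Perm (Fin 7)) i = x} = 4 := by
    rw [Nat.card_congr (Equiv.subtypeEquivRight (q := fun x => x ∈ Tᶜ) fun x => ⟨?_, ?_⟩),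
      Nat.card_eq_fintype_card, Fintype.card_coe, Finset.card_compl, Fintype.card_fin, hT]
    · rintro ⟨g, hg, rfl⟩
      exact Finset.mem_compl.2 fun e => hi ((mem_setSt.1 hg i).1 e)
    · exact fun hx => set_trans_out hT hi (Finset.mem_compl.1 hx)
  rw [h2, card_setSt hT, inf_comm] at h1
  omega

theorem card_pt_set_in {T : Finset (Fin 7)} (hT : T.card = 3) {i : Fin 7} (hi : i ∈ T) :
    Nat.card (ptSt i ⊓ setSt T : Subgroup A7) = 24 := by
  have h1 := card_inf_ptSt (setSt T) i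
  have h2 : Nat.card {x : Fin 7 // ∃ g ∈ setSt T, (g : Perm (Fin 7)) i = x} = 3 := by
    rw [Nat.card_congr (Equiv.subtypeEquivRight (q := fun x => x ∈ T) fun x => ⟨?_, ?_⟩),
      Nat.card_eq_fintype_card, Fintype.card_coe, hT]
    · rintro ⟨g, hg, rfl⟩
      exact (mem_setSt.1 hg i).2 hi
    · exact fun hx => set_trans_in hT hi hx
  rw [h2, card_setSt hT, inf_comm] at h1
  omega

theorem not_dvd_pt_set_out {T : Finset (Fin 7)} (hT : T.card = 3) {i : Fin 7} (hi : i ∉ T) :
    ¬ 8 ∣ Nat.card (ptSt i ⊓ setSt T : Subgroup A7) := by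
  rw [card_pt_set_out hT hi]; norm_num

theorem dvd_pt_set_in {T : Finset (Fin 7)} (hT : T.card = 3) {i : Fin 7} (hi : i ∈ T) :
    8 ∣ Nat.card (ptSt i ⊓ setSt T : Subgroup A7) := by
  rw [card_pt_set_in hT hi]; norm_num

theorem triple_trans {T T' : Finset (Fin 7)} (hT : T.card = 3) (hT' : T'.card = 3) {i : Fin 7}
    (hi : i ∈ T) (hi' : i ∈ T') :
    ∃ g ∈ ptSt i, T.map (g : Perm (Fin 7)).toEmbedding = T' := by
  have split : ∀ S : Finset (Fin 7), S.card = 3 → i ∈ S →
      ∃ b c, i ≠ b ∧ i ≠ c ∧ b ≠ c ∧ S = {i, b, c} := by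
    intro S hS hiS
    obtain ⟨b, c, hbc, he⟩ := Finset.card_eq_two.1
      (show (S.erase i).card = 2 by rw [Finset.card_erase_of_mem hiS, hS])
    have hb : b ∈ S.erase i := by rw [he]; simp
    have hc : c ∈ S.erase i := by rw [he]; simp
    refine ⟨b, c, (Finset.mem_erase.1 hb).1.symm, (Finset.mem_erase.1 hc).1.symm, hbc, ?_⟩
    rw [← Finset.insert_erase hiS, he]
  obtain ⟨b, c, h1, h2, h3, rfl⟩ := split T hT hi
  obtain ⟨b', c', h4, h5, h6, rfl⟩ := split T' hT' hi'
  obtain ⟨g, hg⟩ := exists_map (k := 3) (by norm_num) ![i, b, c] ![i, b', c'] (three_inj h1 h2 h3)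
    (three_inj h4 h5 h6)
  have e0 : (g : Perm (Fin 7)) i = i := hg 0
  have e1 : (g : Perm (Fin 7)) b = b' := hg 1
  have e2 : (g : Perm (Fin 7)) c = c' := hg 2
  refine ⟨g, mem_ptSt.2 e0, ?_⟩
  simp [Finset.map_insert, e0, e1, e2]

end M23A7
end H62
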