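import Mathlib
import Cfsg.Agent.H62.M23A7.Pts
import Cfsg.Agent.H91.M23R.Loc
import Cfsg.Agent.H69.RadicalRep
import Cfsg.Agent.H37.GL42A7
import Cfsg.Agent.H41.A8Sub

/-!
The normaliser of the sixteen-group modulo it is alternating of degree seven.
-/

set_option autoImplicit false
set_option linter.style.haveILetI false
set_option linter.unusedSectionVars false

namespace H62
namespace M23A7

open Equiv Subgroup

variable {G : Type*} [Group G] [Finite G]

theorem exists_hom (H : H91.M23R.Hep G) :
    ∃ pi : ↥(normalizer (H.E : Set G)) →* A7, Function.Surjective pi ∧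
      pi.ker = H.E.subgroupOf (normalizer (H.E : Set G)) := by
  set E := H.E with hE
  set N := normalizer (E : Set G) with hN
  obtain ⟨s, -, hs, -⟩ := H69.RadicalRep.exists_coords (V := E)
    (fun v => Subtype.ext (H.sq v v.2)) (le_of_eq H.card_E)
  have hmem : ∀ (g : N) (v : E), (g : G) * v * (g : G)⁻¹ ∈ E := fun g v =>
    (mem_normalizer_iff.1 g.2 v).1 v.2
  have hmem' : ∀ (g : N) (v : E), (g : G)⁻¹ * v * (g : G) ∈ E := fun g v =>
    (mem_normalizer_iff''.1 g.2 v).1 v.2
  let c : N →* MulAut E :=
    { toFun := fun g =>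
        { toFun := fun v => ⟨_, hmem g v⟩
          invFun := fun v => ⟨_, hmem' g v⟩
          left_inv := fun v => Subtype.ext (by simp only; group)
          right_inv := fun v => Subtype.ext (by simp only; group)
          map_mul' := fun u v => Subtype.ext (by simp only [Subgroup.coe_mul]; group) }
      map_one' := by
        refine MulEquiv.ext fun v => Subtype.ext ?_
        show ((1 : N) : G) * (v : G) * ((1 : N) : G)⁻¹ = (v : G)
        simp
      map_mul' := fun a b => by
        refine MulEquiv.ext fun v => Subtype.ext ?_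
        show ((a * b : N) : G) * (v : G) * ((a * b : N) : G)⁻¹ =
          (a : G) * ((b : G) * v * (b : G)⁻¹) * (a : G)⁻¹
        rw [Subgroup.coe_mul]
        group }
  have hcomm : ∀ u v : G, u ∈ E → v ∈ E → u * v = v * u := by
    intro u v hu hv
    have i1 : ∀ x ∈ E, x⁻¹ = x := fun x hx => inv_eq_of_mul_eq_one_right (H.sq x hx)
    calc u * v = (u * v)⁻¹ := (i1 _ (mul_mem hu hv)).symm
      _ = v * u := by rw [mul_inv_rev, i1 u hu, i1 v hv]
  have hker : c.ker = E.subgroupOf N := by
    ext g
    rw [MonoidHom.mem_ker, mem_subgroupOf]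
    constructor
    · intro h
      refine H.self (mem_centralizer_iff.2 fun v hv => ?_)
      have e : (g : G) * v * (g : G)⁻¹ = v :=
        congrArg Subtype.val (DFunLike.congr_fun h ⟨v, hv⟩)
      exact (mul_inv_eq_iff_eq_mul.1 e).symm
    · intro h
      refine MulEquiv.ext fun v => Subtype.ext ?_
      show (g : G) * (v : G) * (g : G)⁻¹ = (v : G)
      rw [hcomm _ _ h v.2, mul_inv_cancel_right]
  let f : N →* Perm (Fin 8) :=
    ((alternatingGroup (Fin 8)).subtype.comp H37.rho8A.toMonoidHom).comp (s.comp c)
  have hfker : f.ker = E.subgroupOf N := by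
    rw [← hker]
    ext g
    simp only [MonoidHom.mem_ker, f, MonoidHom.comp_apply, MulEquiv.coe_toMonoidHom,
      Subgroup.coe_subtype, OneMemClass.coe_eq_one, map_eq_one_iff _ H37.rho8A.injective,
      map_eq_one_iff _ hs]
  have hA : f.range ≤ alternatingGroup (Fin 8) := by
    rintro _ ⟨g, rfl⟩
    exact (H37.rho8A (s (c g))).2
  have hcard : Nat.card f.range = 2520 := by
    have h := f.ker.card_mul_index
    rw [Subgroup.index_ker, hfker,
      Nat.card_congr (subgroupOfEquivOfLe (le_normalizer (H := E))).toEquiv] at h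
    have h1 : Nat.card N = 40320 := H.card_N
    have h2 : Nat.card E = 16 := H.card_E
    rw [h1, h2] at h
    omega
  have hiso : Nonempty (f.range ≃* A7) := by
    rcases H41.A8.five_seven (R := f.range) hA (by rw [hcard]; norm_num) (by rw [hcard]; norm_num) with h | h
    · obtain ⟨e⟩ := h
      have := Nat.card_congr e.toEquiv
      rw [hcard, nat_card_alternatingGroup, Nat.card_fin] at this
      norm_num [Nat.factorial] at this
    · exact h
  obtain ⟨e⟩ := hiso
  refine ⟨e.toMonoidHom.comp f.rangeRestrict, e.surjective.comp f.rangeRestrict_surjective, ?_⟩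
  rw [← hfker]
  ext g
  simp only [MonoidHom.mem_ker, MonoidHom.comp_apply, MulEquiv.coe_toMonoidHom,
    map_eq_one_iff _ e.injective, Subtype.ext_iff, MonoidHom.coe_rangeRestrict, OneMemClass.coe_one]

theorem not_commute_of_threeCycle (L : H91.M23R.Loc G) (H : H91.M23R.Hep G)
    {pi : ↥(normalizer (H.E : Set G)) →* A7}
    (hk : pi.ker = H.E.subgroupOf (normalizer (H.E : Set G))) {n : ↥(normalizer (H.E : Set G))}
    (h3 : ((pi n : A7) : Perm (Fin 7)).IsThreeCycle) {e : G} (he : e ∈ H.E) (he1 : e ≠ 1) :
    ¬ Commute (n : G) e := by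
  classical
  intro hne
  haveI : Fact (Nat.Prime 7) := ⟨by norm_num⟩
  set C := centralizer ({e} : Set G) with hC
  have ho : orderOf e = 2 := orderOf_eq_prime (by rw [sq]; exact H.sq e he) he1
  set M := (C.subgroupOf (normalizer (H.E : Set G))).map ((alternatingGroup (Fin 7)).subtype.comp pi) with hM
  have hker : (pi.comp (C.subgroupOf (normalizer (H.E : Set G))).subtype).ker =
      (H.E.subgroupOf (normalizer (H.E : Set G))).subgroupOf (C.subgroupOf (normalizer (H.E : Set G))) := by
    ext g
    rw [MonoidHom.mem_ker, mem_subgroupOf, ← hk, MonoidHom.mem_ker]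
    rfl
  have hEC : H.E ≤ C := fun v hv => mem_centralizer_singleton_iff.2 (by
    have i1 : ∀ x ∈ H.E, x⁻¹ = x := fun x hx => inv_eq_of_mul_eq_one_right (H.sq x hx)
    calc v * e = (v * e)⁻¹ := (i1 _ (mul_mem hv he)).symm
      _ = e * v := by rw [mul_inv_rev, i1 v hv, i1 e he])
  have hMc : Nat.card M = 168 := by
    have h := (pi.comp (C.subgroupOf (normalizer (H.E : Set G))).subtype).ker.card_mul_index
    rw [Subgroup.index_ker, hker,
      Nat.card_congr (subgroupOfEquivOfLe (H := H.E.subgroupOf (normalizer (H.E : Set G))) (K := C.subgroupOf (normalizer (H.E : Set G)))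
        (fun x hx => hEC hx)).toEquiv,
      Nat.card_congr (subgroupOfEquivOfLe (le_normalizer (H := H.E))).toEquiv, H.card_E,
      Nat.card_congr (subgroupOfEquivOfLe (H.cent e he he1)).toEquiv, L.cent2 e ho] at h
    have e1 : Nat.card M = Nat.card (pi.comp (C.subgroupOf (normalizer (H.E : Set G))).subtype).range := by
      rw [hM, ← Subgroup.map_map, MonoidHom.range_comp, Subgroup.range_subtype]
      exact Nat.card_congr ((Subgroup.equivMapOfInjective _ _
        (alternatingGroup (Fin 7)).subtype_injective).toEquiv).symm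
    omega
  have hmem : ((pi n : A7) : Perm (Fin 7)) ∈ M :=
    ⟨n, mem_subgroupOf.2 (mem_centralizer_singleton_iff.2 hne), rfl⟩
  obtain ⟨g, hg⟩ := exists_prime_orderOf_dvd_card' (G := M) 7 (by rw [hMc]; norm_num)
  rw [← Subgroup.orderOf_coe] at hg
  haveI : MulAction.IsPretransitive M (Fin 7) := by
    obtain ⟨x, hx⟩ : ∃ x, (g : Perm (Fin 7)) x ≠ x := by
      by_contra h
      simp only [not_exists, not_not] at h
      rw [show (g : Perm (Fin 7)) = 1 from Equiv.ext h, orderOf_one] at hg
      norm_num at hg
    have horb : MulAction.orbit (zpowers (g : Perm (Fin 7))) x = Set.univ := by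
      have hd : (MulAction.orbit (zpowers (g : Perm (Fin 7))) x).ncard ∣ 7 := by
        have h := (MulAction.stabilizer (zpowers (g : Perm (Fin 7))) x).card_mul_index
        rw [MulAction.index_stabilizer, Nat.card_zpowers, hg] at h
        exact Dvd.intro_left _ h
      rcases (by norm_num : Nat.Prime 7).eq_one_or_self_of_dvd _ hd with h | h
      · exfalso
        obtain ⟨y, hy⟩ := Set.ncard_eq_one.1 h
        have h1 : (g : Perm (Fin 7)) x ∈ MulAction.orbit (zpowers (g : Perm (Fin 7))) x :=
          ⟨⟨_, mem_zpowers _⟩, rfl⟩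
        have h2 := MulAction.mem_orbit_self (M := zpowers (g : Perm (Fin 7))) x
        rw [hy, Set.mem_singleton_iff] at h1 h2
        exact hx (h1.trans h2.symm)
      · exact Set.eq_of_subset_of_ncard_le (Set.subset_univ _)
          (by rw [Set.ncard_univ, Nat.card_fin, h])
    refine (MulAction.isPretransitive_iff_base x).2 fun y => ?_
    have hy : y ∈ MulAction.orbit (zpowers (g : Perm (Fin 7))) x := by rw [horb]; trivial
    obtain ⟨k, rfl⟩ := hy
    exact ⟨⟨k.1, zpowers_le.2 g.2 k.2⟩, rfl⟩
  haveI hprim : MulAction.IsPreprimitive M (Fin 7) :=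
    MulAction.IsPreprimitive.of_prime_card (by rw [Nat.card_fin]; norm_num)
  have hle := card_le_of_le (Equiv.Perm.alternatingGroup_le_of_isPreprimitive_of_isThreeCycle_mem hprim h3 hmem)
  rw [hMc, nat_card_alternatingGroup, Nat.card_fin] at hle
  norm_num [Nat.factorial] at hle

end M23A7
end H62
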