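import Mathlib
import Cfsg.Agent.H62.M23A7.Pts

/-!
A four-group and a three-cycle in the stabiliser of a point and of a triple through it.
-/

set_option autoImplicit false
set_option linter.style.haveILetI false

namespace H62
namespace M23A7

open Equiv Subgroup

/-- The first double transposition. -/
def w1 : A7 := ⟨swap 0 1 * swap 2 3, by rw [Perm.mem_alternatingGroup, map_mul, Perm.sign_swap (by decide), Perm.sign_swap (by decide)]; rfl⟩

/-- The second double transposition. -/
def w2 : A7 := ⟨swap 0 2 * swap 1 3, by rw [Perm.mem_alternatingGroup, map_mul, Perm.sign_swap (by decide), Perm.sign_swap (by decide)]; rfl⟩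

/-- A three-cycle fixing the triple. -/
def w3 : A7 := ⟨swap 0 1 * swap 1 2, by rw [Perm.mem_alternatingGroup, map_mul, Perm.sign_swap (by decide), Perm.sign_swap (by decide)]; rfl⟩

/-- The four elements. -/
def fourList : List A7 := [1, w1, w2, w1 * w2]

/-- The products, inverses, conjugates and fixed points are as expected. -/
def fourCheck : Bool :=
  (fourList.all fun a => (fourList.all fun b => fourList.any fun c => decide (a * b = c)) &&
    (fourList.any fun c => decide (a⁻¹ = c)) && (fourList.any fun c => decide (w3 * a * w3⁻¹ = c)) &&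
    (List.finRange 7).all fun y => decide ((a = 1 ∨ ((a : Perm (Fin 7)) y = y → (y = 4 ∨ y = 5 ∨ y = 6))) ∧
      ((y = 4 ∨ y = 5 ∨ y = 6) → (a : Perm (Fin 7)) y = y))) &&
    decide fourList.Nodup && (List.finRange 7).all fun y => decide ((y = 4 ∨ y = 5 ∨ y = 6) → (w3 : Perm (Fin 7)) y = y)

theorem fourCheck_ok : fourCheck = true := by decide +kernel

theorem fourList_mul : ∀ a ∈ fourList, ∀ b ∈ fourList, a * b ∈ fourList := by
  intro a ha b hb
  have h := fourCheck_ok
  simp only [fourCheck, Bool.and_eq_true, List.all_eq_true, List.any_eq_true, decide_eq_true_eq] at h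
  obtain ⟨c, hc, e⟩ := (h.1.1 a ha).1.1.1 b hb
  exact e ▸ hc

theorem fourList_inv : ∀ a ∈ fourList, a⁻¹ ∈ fourList := by
  intro a ha
  have h := fourCheck_ok
  simp only [fourCheck, Bool.and_eq_true, List.all_eq_true, List.any_eq_true, decide_eq_true_eq] at h
  obtain ⟨c, hc, e⟩ := (h.1.1 a ha).1.1.2
  exact e ▸ hc

theorem fourList_conj : ∀ g ∈ fourList, w3 * g * w3⁻¹ ∈ fourList := by
  intro a ha
  have h := fourCheck_ok
  simp only [fourCheck, Bool.and_eq_true, List.all_eq_true, List.any_eq_true, decide_eq_true_eq] at h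
  obtain ⟨c, hc, e⟩ := (h.1.1 a ha).1.2
  exact e ▸ hc

theorem fourList_nodup : fourList.Nodup := by
  have h := fourCheck_ok
  simp only [fourCheck, Bool.and_eq_true, decide_eq_true_eq] at h
  exact h.1.2

theorem fourList_top : ∀ g ∈ fourList, ∀ y : Fin 7, (y = 4 ∨ y = 5 ∨ y = 6) →
    (g : Perm (Fin 7)) y = y := by
  intro g hg y
  have h := fourCheck_ok
  simp only [fourCheck, Bool.and_eq_true, List.all_eq_true, List.any_eq_true, decide_eq_true_eq] at h
  exact ((h.1.1 g hg).2 y (List.mem_finRange y)).2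

theorem fourList_fixed : ∀ g ∈ fourList, g ≠ 1 → ∀ y : Fin 7,
    (g : Perm (Fin 7)) y = y → (y = 4 ∨ y = 5 ∨ y = 6) := by
  intro g hg hg1 y
  have h := fourCheck_ok
  simp only [fourCheck, Bool.and_eq_true, List.all_eq_true, List.any_eq_true, decide_eq_true_eq] at h
  exact ((h.1.1 g hg).2 y (List.mem_finRange y)).1.resolve_left hg1

theorem w3_top : ∀ y : Fin 7, (y = 4 ∨ y = 5 ∨ y = 6) → (w3 : Perm (Fin 7)) y = y := by
  intro y
  have h := fourCheck_ok
  simp only [fourCheck, Bool.and_eq_true, List.all_eq_true, List.any_eq_true, decide_eq_true_eq] at h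
  exact h.2 y (List.mem_finRange y)

/-- The four-group on the first four points. -/
def four : Subgroup A7 where
  carrier := {g | g ∈ fourList}
  one_mem' := by simp [fourList]
  mul_mem' := fun {a b} ha hb => fourList_mul a ha b hb
  inv_mem' := fun {a} ha => fourList_inv a ha

theorem card_four : Nat.card four = 4 := by
  have h : Nat.card four = fourList.toFinset.card := by
    rw [← Nat.card_eq_finsetCard]
    exact Nat.card_congr (Equiv.subtypeEquivRight fun g => List.mem_toFinset.symm)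
  rw [h, List.toFinset_card_of_nodup fourList_nodup]
  rfl

theorem w3_cycle : (w3 : Perm (Fin 7)).IsThreeCycle := by
  have e : (w3 : Perm (Fin 7)) = swap (1 : Fin 7) 0 * swap 1 2 := by
    rw [swap_comm (1 : Fin 7) 0]
    rfl
  rw [e]
  exact Perm.isThreeCycle_swap_mul_swap_same (by decide) (by decide) (by decide)

theorem exists_three_klein {T : Finset (Fin 7)} (hT : T.card = 3) {i : Fin 7} (hi : i ∈ T) :
    ∃ c ∈ ptSt i ⊓ setSt T, (c : Perm (Fin 7)).IsThreeCycle ∧
      ∃ V : Subgroup A7, Nat.card V = 4 ∧ V ≤ ptSt i ⊓ setSt T ∧ (∀ v ∈ V, c * v * c⁻¹ ∈ V) ∧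
        ∀ v ∈ V, v ≠ 1 → ∀ x, (v : Perm (Fin 7)) x = x ↔ x ∈ T := by
  obtain ⟨b, d, hbd, he⟩ := Finset.card_eq_two.1
    (show (T.erase i).card = 2 by rw [Finset.card_erase_of_mem hi, hT])
  have hb : b ∈ T.erase i := by rw [he]; simp
  have hd : d ∈ T.erase i := by rw [he]; simp
  have hTe : T = {i, b, d} := by rw [← Finset.insert_erase hi, he]
  obtain ⟨s, hs⟩ := exists_map (k := 3) (by norm_num) ![4, 5, 6] ![i, b, d]
    (three_inj (by decide) (by decide) (by decide))
    (three_inj (Finset.mem_erase.1 hb).1.symm (Finset.mem_erase.1 hd).1.symm hbd)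
  have s4 : (s : Perm (Fin 7)) 4 = i := hs 0
  have s5 : (s : Perm (Fin 7)) 5 = b := hs 1
  have s6 : (s : Perm (Fin 7)) 6 = d := hs 2
  have memT : ∀ y, (s : Perm (Fin 7)) y ∈ T ↔ (y = 4 ∨ y = 5 ∨ y = 6) := by
    intro y
    rw [hTe, ← s4, ← s5, ← s6]
    simp only [Finset.mem_insert, Finset.mem_singleton, (s : Perm (Fin 7)).injective.eq_iff]
  have fixed : ∀ g : A7, (∀ y : Fin 7, (y = 4 ∨ y = 5 ∨ y = 6) → (g : Perm (Fin 7)) y = y) →
      s * g * s⁻¹ ∈ ptSt i ⊓ setSt T := by
    intro g hg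
    have hfix : ∀ x ∈ T, ((s * g * s⁻¹ : A7) : Perm (Fin 7)) x = x := by
      intro x hx
      obtain ⟨y, rfl⟩ := (s : Perm (Fin 7)).surjective x
      simp [hg y ((memT y).1 hx)]
    exact mem_inf.2 ⟨mem_ptSt.2 (hfix i hi), mem_setSt_of fun x hx => by rw [hfix x hx]; exact hx⟩
  refine ⟨s * w3 * s⁻¹, fixed w3 w3_top, ?_, four.map (MulAut.conj s).toMonoidHom, ?_, ?_, ?_, ?_⟩
  · show Perm.cycleType _ = {3}
    rw [Subgroup.coe_mul, Subgroup.coe_mul, Subgroup.coe_inv, Perm.cycleType_conj]
    exact w3_cycle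
  · rw [← Nat.card_congr (four.equivMapOfInjective _ (MulAut.conj s).injective).toEquiv, card_four]
  · rintro _ ⟨g, hg, rfl⟩
    exact fixed g (fourList_top g hg)
  · rintro _ ⟨g, hg, rfl⟩
    refine ⟨w3 * g * w3⁻¹, fourList_conj g hg, ?_⟩
    simp only [MulEquiv.coe_toMonoidHom, MulAut.conj_apply]
    group
  · rintro _ ⟨g, hg, rfl⟩ hv x
    have hg1 : g ≠ 1 := fun e => hv (by simp [e])
    obtain ⟨y, rfl⟩ := (s : Perm (Fin 7)).surjective x
    rw [memT]
    refine Iff.trans ?_ (⟨fourList_fixed g hg hg1 y, fourList_top g hg y⟩ :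
      (g : Perm (Fin 7)) y = y ↔ _)
    simp

end M23A7
end H62
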