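import Mathlib
import Cfsg.Agent.H62.M23A7.Pts

/-!
Subgroups of the alternating group of degree seven of given orders.
-/

set_option autoImplicit false
set_option linter.style.haveILetI false

namespace H62
namespace M23A7

open Equiv Subgroup

/-- A point stabiliser has no subgroup of index two to five. -/
theorem no_small_index {i : Fin 7} {K : Subgroup A7} (hK : K ≤ ptSt i) {k : ℕ} (hk : k ≤ 5) (hk1 : k ≠ 1) :
    Nat.card K * k ≠ 360 := by
  classical
  intro hc
  let p : Fin 7 → Prop := fun x => x ≠ i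
  have hmem : ∀ g : alternatingGroup {x // p x},
      Perm.ofSubtype (g : Perm {x // p x}) ∈ alternatingGroup (Fin 7) := fun g => by
    rw [Perm.mem_alternatingGroup, Perm.sign_ofSubtype]
    exact Perm.mem_alternatingGroup.1 g.2
  let f : alternatingGroup {x // p x} →* A7 :=
    (Perm.ofSubtype.comp (alternatingGroup {x // p x}).subtype).codRestrict _ hmem
  have hf : Function.Injective f := fun a b h =>
    Subtype.ext (Perm.ofSubtype_injective (congrArg Subtype.val h))
  have h6 : Nat.card {x // p x} = 6 := by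
    simp [p, Nat.card_eq_fintype_card, Fintype.card_subtype_compl]
  have hcard : Nat.card (alternatingGroup {x // p x}) = 360 := by
    haveI : Nontrivial {x // p x} := Finite.one_lt_card_iff_nontrivial.1 (by rw [h6]; norm_num)
    rw [nat_card_alternatingGroup, h6]
    norm_num [Nat.factorial]
  have hr : f.range = ptSt i := by
    refine eq_of_le_of_card_ge ?_ (by
      rw [Nat.card_congr (MonoidHom.ofInjective hf).symm.toEquiv, hcard, card_ptSt])
    rintro _ ⟨g, rfl⟩
    exact Perm.ofSubtype_apply_of_not_mem (g : Perm {x // p x}) (by simp [p])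
  have hsimp : IsSimpleGroup (alternatingGroup {x // p x}) :=
    alternatingGroup.isSimpleGroup (by rw [h6]; norm_num)
  set K' := K.comap f with hK'
  have hK'c : Nat.card K' = Nat.card K := by
    refine Nat.card_congr (Equiv.ofBijective (fun g : K' => (⟨f g, g.2⟩ : K)) ⟨fun a b h => ?_, fun g => ?_⟩)
    · exact Subtype.ext (hf (congrArg Subtype.val h))
    · obtain ⟨a, ha⟩ : (g : A7) ∈ f.range := by rw [hr]; exact hK g.2
      exact ⟨⟨a, show f a ∈ K by rw [ha]; exact g.2⟩, Subtype.ext ha⟩
  have hidx : K'.index = k := by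
    have h := K'.card_mul_index
    rw [hK'c, hcard, ← hc] at h
    exact Nat.eq_of_mul_eq_mul_left Nat.card_pos h
  rcases hsimp.eq_bot_or_eq_top_of_normal K'.normalCore inferInstance with hb | ht
  · have hinj : Function.Injective (MulAction.toPermHom (alternatingGroup {x // p x})
        (alternatingGroup {x // p x} ⧸ K')) := by
      rw [← MonoidHom.ker_eq_bot_iff, ← Subgroup.normalCore_eq_ker, hb]
    have hle := Nat.card_le_card_of_injective _ hinj
    rw [hcard, Nat.card_perm, ← index_eq_card, hidx] at hle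
    have := hle.trans (Nat.factorial_le hk)
    norm_num [Nat.factorial] at this
  · have htop : K' = ⊤ := top_le_iff.1 (ht ▸ K'.normalCore_le)
    rw [htop, index_top] at hidx
    exact hk1 hidx.symm

/-- The orbit of a point under a subgroup. -/
noncomputable def orb (K : Subgroup A7) (i : Fin 7) : Finset (Fin 7) :=
  letI := Classical.decPred fun x : Fin 7 => ∃ g ∈ K, (g : Perm (Fin 7)) i = x
  Finset.univ.filter fun x => ∃ g ∈ K, (g : Perm (Fin 7)) i = x

theorem mem_orb {K : Subgroup A7} {i x : Fin 7} :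
    x ∈ orb K i ↔ ∃ g ∈ K, (g : Perm (Fin 7)) i = x := by
  simp [orb]

theorem self_mem_orb (K : Subgroup A7) (i : Fin 7) : i ∈ orb K i :=
  mem_orb.2 ⟨1, one_mem _, by simp⟩

theorem le_setSt_orb (K : Subgroup A7) (i : Fin 7) : K ≤ setSt (orb K i) := fun g hg =>
  mem_setSt_of fun x hx => by
    obtain ⟨h, hh, rfl⟩ := mem_orb.1 hx
    exact mem_orb.2 ⟨g * h, mul_mem hg hh, rfl⟩

theorem orb_eq_of_mem {K : Subgroup A7} {i x : Fin 7} (hx : x ∈ orb K i) : orb K x = orb K i := by
  obtain ⟨h, hh, rfl⟩ := mem_orb.1 hx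
  ext y
  simp only [mem_orb]
  constructor
  · rintro ⟨g, hg, rfl⟩
    exact ⟨g * h, mul_mem hg hh, rfl⟩
  · rintro ⟨g, hg, rfl⟩
    exact ⟨g * h⁻¹, mul_mem hg (inv_mem hh), by simp⟩

theorem card_orb_dvd (K : Subgroup A7) (i : Fin 7) : (orb K i).card ∣ Nat.card K := by
  refine Dvd.intro_left (Nat.card (K ⊓ ptSt i : Subgroup A7)) ?_
  rw [← card_inf_ptSt K i, ← Fintype.card_coe, ← Nat.card_eq_fintype_card]
  exact congrArg _ (Nat.card_congr (Equiv.subtypeEquivRight fun x => mem_orb))

/-- An element of prime order moves the orbit through at least that many points. -/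
theorem le_card_orb {K : Subgroup A7} {g : A7} (hg : g ∈ K) {q : ℕ} (hq : q.Prime) (hgq : orderOf g = q)
    {i : Fin 7} (hi : (g : Perm (Fin 7)) i ≠ i) : q ≤ (orb K i).card := by
  have hd : (orb (zpowers g) i).card ∣ q := by
    have := card_orb_dvd (zpowers g) i
    rwa [Nat.card_zpowers, hgq] at this
  have hsub : orb (zpowers g) i ⊆ orb K i := fun x hx => by
    obtain ⟨h, hh, rfl⟩ := mem_orb.1 hx
    exact mem_orb.2 ⟨h, zpowers_le.2 hg hh, rfl⟩
  rcases hq.eq_one_or_self_of_dvd _ hd with h1 | h1
  · exact absurd (Finset.card_le_one.1 h1.le _ (mem_orb.2 ⟨g, mem_zpowers g, rfl⟩) _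
      (self_mem_orb _ i)) hi
  · exact h1 ▸ Finset.card_le_card hsub

theorem exists_moved {g : A7} (hg : g ≠ 1) : ∃ i, (g : Perm (Fin 7)) i ≠ i := by
  by_contra h
  simp only [not_exists, not_not] at h
  exact hg (Subtype.ext (Equiv.ext h))

theorem compl_singleton {S : Finset (Fin 7)} (h : S.card = 6) : ∃ j, S = {j}ᶜ := by
  obtain ⟨j, hj⟩ := Finset.card_eq_one.1 (show Sᶜ.card = 1 by rw [Finset.card_compl, Fintype.card_fin, h])
  exact ⟨j, by rw [← hj, compl_compl]⟩

theorem ptSt_inj {i j : Fin 7} (h : ptSt i = ptSt j) : i = j := by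
  by_contra hij
  have h1 := card_two_points hij
  rw [← h, inf_idem, card_ptSt] at h1
  omega

theorem eq_ptSt_of_five {K : Subgroup A7} (h5 : 5 ∣ Nat.card K) (h7 : ¬ 7 ∣ Nat.card K)
    (hidx : K.index ≤ 15) : ∃! i, K = ptSt i := by
  haveI : Fact (Nat.Prime 5) := ⟨by norm_num⟩
  have hcard := K.card_mul_index
  rw [card_A7] at hcard
  have hlow : 168 ≤ Nat.card K := by nlinarith
  obtain ⟨g, hg⟩ := exists_prime_orderOf_dvd_card' 5 h5
  rw [← Subgroup.orderOf_coe] at hg
  have hg1 : (g : A7) ≠ 1 := fun e => by rw [e, orderOf_one] at hg; norm_num at hg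
  obtain ⟨i, hi⟩ := exists_moved hg1
  have hl := le_card_orb g.2 (by norm_num) hg hi
  have hu : (orb K i).card ≤ 7 := (Finset.card_le_univ _).trans (by simp)
  have hd := card_orb_dvd K i
  have h6 : (orb K i).card = 6 := by
    rcases Nat.lt_or_ge (orb K i).card 6 with h | h
    · have e5 : (orb K i).card = 5 := by omega
      have e2 : (orb K i)ᶜ.card = 2 := by rw [Finset.card_compl, Fintype.card_fin, e5]
      have := Subgroup.card_le_of_le ((le_setSt_orb K i).trans (setSt_compl _).ge)
      rw [card_setSt_two e2] at this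
      omega
    · rcases Nat.lt_or_ge (orb K i).card 7 with h' | h'
      · omega
      · rw [show (orb K i).card = 7 by omega] at hd
        exact absurd hd h7
  obtain ⟨j, hj⟩ := compl_singleton h6
  have hle : K ≤ ptSt j := by
    have := le_setSt_orb K i
    rw [hj, setSt_compl, ← ptSt_eq_setSt] at this
    exact this
  have hd2 := card_dvd_of_le hle
  rw [card_ptSt] at hd2
  obtain ⟨k, hk⟩ := hd2
  have hk2 : k ≤ 2 := by nlinarith
  have hk1 : k = 1 := by
    by_contra hne
    exact no_small_index hle (hk2.trans (by norm_num)) hne hk.symm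
  have hK : K = ptSt j := eq_of_le_of_card_ge hle (by rw [card_ptSt, hk, hk1, mul_one])
  exact ⟨j, hK, fun l hl' => (ptSt_inj (hK.symm.trans hl')).symm⟩

theorem setSt_inj {T T' : Finset (Fin 7)} (hT : T.card = 3) (hT' : T'.card = 3) (h : setSt T = setSt T') :
    T = T' := by
  by_contra hne
  have hnot : ¬ T' ⊆ T := fun hs => hne (Finset.eq_of_subset_of_card_le hs (by omega)).symm
  obtain ⟨b, hb', hb⟩ := Finset.not_subset.1 hnot
  have hnot2 : ¬ Tᶜ ⊆ T' := fun hs => by
    have := Finset.card_le_card hs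
    rw [Finset.card_compl, Fintype.card_fin, hT] at this
    omega
  obtain ⟨d, hd, hd'⟩ := Finset.not_subset.1 hnot2
  obtain ⟨g, hg, e⟩ := set_trans_out hT hb (Finset.mem_compl.1 hd)
  rw [h] at hg
  exact hd' (e ▸ (mem_setSt.1 hg b).2 hb')

theorem eq_setSt_of_card {K : Subgroup A7} (hK : Nat.card K = 72) :
    ∃! T : Finset (Fin 7), T.card = 3 ∧ K = setSt T := by
  classical
  haveI : Fact (Nat.Prime 3) := ⟨by norm_num⟩
  have hsz : ∀ i, (orb K i).card ≤ 4 := by
    intro i
    have hd := card_orb_dvd K i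
    rw [hK] at hd
    have hu : (orb K i).card ≤ 7 := (Finset.card_le_univ _).trans (by simp)
    by_contra hgt
    have h6 : (orb K i).card = 6 := by
      obtain ⟨c, hc⟩ := hd
      rcases (show (orb K i).card = 5 ∨ (orb K i).card = 6 ∨ (orb K i).card = 7 by omega) with h | h | h
      · rw [h] at hc; omega
      · exact h
      · rw [h] at hc; omega
    obtain ⟨j, hj⟩ := compl_singleton h6
    have hle := le_setSt_orb K i
    rw [hj, setSt_compl, ← ptSt_eq_setSt] at hle
    exact no_small_index hle (le_refl 5) (by norm_num) (by rw [hK])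
  obtain ⟨T, hT, hle⟩ : ∃ T : Finset (Fin 7), T.card = 3 ∧ K ≤ setSt T := by
    by_contra hno
    obtain ⟨P⟩ : Nonempty (Sylow 3 K) := inferInstance
    have hP : Nat.card P = 9 := by
      rw [P.card_eq_multiplicity, hK, show (72 : ℕ) = 3 ^ 2 * 8 by norm_num,
        Nat.factorization_mul (by norm_num) (by norm_num), Finsupp.add_apply,
        Nat.Prime.factorization_pow (by norm_num), Finsupp.single_eq_same,
        Nat.factorization_eq_zero_of_not_dvd (by norm_num : ¬ 3 ∣ 8)]
      norm_num
    have four : ∀ g : P, ∀ i, ((g : K) : A7).1 i ≠ i → (orb K i).card = 4 := by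
      intro g i hi
      obtain ⟨n, hn⟩ := (IsPGroup.iff_orderOf.1 P.2) g
      have hmem : ((g : K) : A7) ∈ K := (g : K).2
      have h2 : 2 < (orb K i).card := by
        by_contra hle2
        have hd : (orb (zpowers ((g : K) : A7)) i).card ∣ 3 ^ n := by
          have := card_orb_dvd (zpowers ((g : K) : A7)) i
          rwa [Nat.card_zpowers, Subgroup.orderOf_coe, Subgroup.orderOf_coe, hn] at this
        have hsub : orb (zpowers ((g : K) : A7)) i ⊆ orb K i := fun x hx => by
          obtain ⟨h, hh, rfl⟩ := mem_orb.1 hx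
          exact mem_orb.2 ⟨h, zpowers_le.2 hmem hh, rfl⟩
        have hle' := Finset.card_le_card hsub
        obtain ⟨m, -, hm⟩ := (Nat.dvd_prime_pow (by norm_num)).1 hd
        have h1 : (orb (zpowers ((g : K) : A7)) i).card = 1 := by
          rcases m with _ | m
          · simpa using hm
          · have h3 : 3 ≤ 3 ^ (m + 1) := Nat.le_self_pow (Nat.succ_ne_zero m) 3
            omega
        exact hi (Finset.card_le_one.1 h1.le _ (mem_orb.2 ⟨_, mem_zpowers _, rfl⟩) _ (self_mem_orb _ i))
      have h3 : (orb K i).card ≠ 3 := fun h => hno ⟨_, h, le_setSt_orb K i⟩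
      have := hsz i
      omega
    obtain ⟨g, hg⟩ : ∃ g : P, g ≠ 1 := by
      haveI : Nontrivial P := Finite.one_lt_card_iff_nontrivial.1 (by rw [hP]; norm_num)
      exact exists_ne 1
    obtain ⟨i, hi⟩ := exists_moved (g := ((g : K) : A7)) (fun e => hg (Subtype.ext (Subtype.ext e)))
    set O := orb K i with hO
    have hO4 : O.card = 4 := four g i hi
    have hout : ∀ h : P, ∀ x, x ∉ O → ((h : K) : A7).1 x = x := by
      intro h x hx
      by_contra hne
      have h4 := four h x hne
      have hdis : Disjoint O (orb K x) := Finset.disjoint_left.2 fun y hy hy' => hx (by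
        have e := orb_eq_of_mem hy'
        rw [orb_eq_of_mem hy] at e
        rw [hO, e]; exact self_mem_orb _ _)
      have := Finset.card_le_univ (O ∪ orb K x)
      rw [Finset.card_union_of_disjoint hdis, hO4, h4, Fintype.card_fin] at this
      omega
    let r : P →* Perm {x // x ∈ O} :=
      { toFun := fun h => ((h : K) : A7).1.subtypePerm fun x => (mem_setSt.1 (le_setSt_orb K i (h : K).2) x)
        map_one' := by ext; rfl
        map_mul' := fun a b => by ext; rfl }
    have hr : Function.Injective r := by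
      intro a b hab
      refine Subtype.ext (Subtype.ext (Subtype.ext (Equiv.ext fun x => ?_)))
      by_cases hx : x ∈ O
      · exact congrArg Subtype.val (Equiv.ext_iff.1 hab ⟨x, hx⟩)
      · rw [hout a x hx, hout b x hx]
    have := Subgroup.card_dvd_of_injective r hr
    rw [hP, Nat.card_perm, Nat.card_eq_fintype_card, Fintype.card_coe, hO4] at this
    norm_num [Nat.factorial] at this
  have hKT : K = setSt T := eq_of_le_of_card_ge hle (by rw [card_setSt hT, hK])
  exact ⟨T, ⟨hT, hKT⟩, fun S hS => setSt_inj hS.1 hT (hS.2.symm.trans hKT)⟩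

theorem fix_of_normal_four {T : Finset (Fin 7)} (hT : T.card = 3) {V : Subgroup A7} (hV : V ≤ setSt T)
    (hn : ∀ h ∈ setSt T, ∀ v ∈ V, h * v * h⁻¹ ∈ V) (hc : Nat.card V = 4) :
    (∀ v ∈ V, ∀ x ∈ T, (v : Perm (Fin 7)) x = x) ∧
      ∀ v ∈ V, v ≠ 1 → ∀ x, (v : Perm (Fin 7)) x = x ↔ x ∈ T := by
  have h4 : ∀ v ∈ V, v ^ 4 = 1 := fun v hv => by
    have := pow_card_eq_one' (x := (⟨v, hv⟩ : V))
    rw [hc] at this
    exact congrArg Subtype.val this
  have hfix : ∀ v ∈ V, ∀ x ∈ T, (v : Perm (Fin 7)) x = x := by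
    intro v hv a ha
    by_contra hne
    set b := (v : Perm (Fin 7)) a with hb
    have hbT : b ∈ T := (mem_setSt.1 (hV hv) a).2 ha
    set c := (v : Perm (Fin 7)) b with hcdef
    have hcT : c ∈ T := (mem_setSt.1 (hV hv) b).2 hbT
    have hcb : c ≠ b := fun e => hne ((v : Perm (Fin 7)).injective (hcdef ▸ hb ▸ e))
    have hca : c = a := by
      by_contra hca
      have hset : T = {a, b, c} := (Finset.eq_of_subset_of_card_le (by
        intro x hx
        simp only [Finset.mem_insert, Finset.mem_singleton] at hx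
        rcases hx with rfl | rfl | rfl <;> assumption)
        (by simp [hT, Ne.symm hne, Ne.symm hca, Ne.symm hcb])).symm
      have hd : (v : Perm (Fin 7)) c ∈ T := (mem_setSt.1 (hV hv) c).2 hcT
      rw [hset] at hd
      simp only [Finset.mem_insert, Finset.mem_singleton] at hd
      rcases hd with e | e | e
      · have h1 : ((v ^ 4 : A7) : Perm (Fin 7)) a = b := by
          simp [pow_succ, ← hb, ← hcdef, e]
        rw [h4 v hv] at h1
        exact hne h1.symm
      · exact hca ((v : Perm (Fin 7)).injective (e.trans hb))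
      · exact hcb ((v : Perm (Fin 7)).injective (e.trans hcdef))
    obtain ⟨d, hd⟩ : ∃ d, d ∈ (T.erase a).erase b := by
      apply Finset.card_pos.1
      rw [Finset.card_erase_of_mem (Finset.mem_erase.2 ⟨hne, hbT⟩), Finset.card_erase_of_mem ha, hT]
      norm_num
    simp only [Finset.mem_erase] at hd
    have hset : T = {a, b, d} := (Finset.eq_of_subset_of_card_le (by
      intro x hx
      simp only [Finset.mem_insert, Finset.mem_singleton] at hx
      rcases hx with rfl | rfl | rfl
      exacts [ha, hbT, hd.2.2]) (by simp [hT, Ne.symm hne, Ne.symm hd.1, Ne.symm hd.2.1])).symm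
    have hvd : (v : Perm (Fin 7)) d = d := by
      have h1 : (v : Perm (Fin 7)) d ∈ T := (mem_setSt.1 (hV hv) d).2 hd.2.2
      rw [hset] at h1
      simp only [Finset.mem_insert, Finset.mem_singleton] at h1
      rcases h1 with e | e | e
      · exact absurd ((v : Perm (Fin 7)).injective (e.trans (hcdef ▸ hca).symm)) hd.1
      · exact absurd ((v : Perm (Fin 7)).injective (e.trans hb)) hd.2.1
      · exact e
    obtain ⟨h, hh, hab, hcyc⟩ := exists_cycle_on hT ha hbT (Ne.symm hne)
    have hbd : (h : Perm (Fin 7)) b = d := by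
      have h1 : (h : Perm (Fin 7)) b ∈ T := (mem_setSt.1 hh b).2 hbT
      rw [hset] at h1
      simp only [Finset.mem_insert, Finset.mem_singleton] at h1
      rcases h1 with e | e | e
      · exfalso
        have h2 : (h : Perm (Fin 7)) d ∈ T := (mem_setSt.1 hh d).2 hd.2.2
        rw [hset] at h2
        simp only [Finset.mem_insert, Finset.mem_singleton] at h2
        rcases h2 with e2 | e2 | e2
        · exact hd.1 ((h : Perm (Fin 7)).injective (e2.trans e.symm))
        · exact hd.2.1 ((h : Perm (Fin 7)).injective (e2.trans hab.symm))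
        · exact hcyc d hd.2.2 e2
      · exact absurd e (hcyc b hbT)
      · exact e
    have hda : (h : Perm (Fin 7)) d = a := by
      have h2 : (h : Perm (Fin 7)) d ∈ T := (mem_setSt.1 hh d).2 hd.2.2
      rw [hset] at h2
      simp only [Finset.mem_insert, Finset.mem_singleton] at h2
      rcases h2 with e2 | e2 | e2
      · exact e2
      · exact absurd ((h : Perm (Fin 7)).injective (e2.trans hab.symm)) hd.2.1
      · exact absurd e2 (hcyc d hd.2.2)
    set w := v * (h * v * h⁻¹) with hw
    have hwV : w ∈ V := mul_mem hv (hn h hh v hv)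
    have i1 : (h : Perm (Fin 7)).symm a = d := by rw [← hda]; simp
    have i2 : (h : Perm (Fin 7)).symm b = a := by rw [← hab]; simp
    have i3 : (h : Perm (Fin 7)).symm d = b := by rw [← hbd]; simp
    have hva : (v : Perm (Fin 7)) b = a := hcdef ▸ hca
    have w1 : (w : Perm (Fin 7)) a = b := by
      simp [hw, i1, hvd, hda, ← hb]
    have w2 : (w : Perm (Fin 7)) b = d := by
      simp [hw, i2, ← hb, hbd, hvd]
    have w3 : (w : Perm (Fin 7)) d = a := by
      simp [hw, i3, hva, hab]
    have h5 : ((w ^ 4 : A7) : Perm (Fin 7)) a = b := by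
      simp [pow_succ, w1, w2, w3]
    rw [h4 w hwV] at h5
    exact hne h5.symm
  refine ⟨hfix, fun v hv hv1 x => ⟨fun hx => ?_, hfix v hv x⟩⟩
  by_contra hxT
  have hsupp : (v : Perm (Fin 7)).support ⊆ Tᶜ.erase x := by
    intro y hy
    rw [Perm.mem_support] at hy
    rw [Finset.mem_erase, Finset.mem_compl]
    exact ⟨fun e => hy (e ▸ hx), fun e => hy (hfix v hv y e)⟩
  have hle := Finset.card_le_card hsupp
  rw [Finset.card_erase_of_mem (Finset.mem_compl.2 hxT), Finset.card_compl, Fintype.card_fin, hT] at hle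
  have hne1 : (v : Perm (Fin 7)) ≠ 1 := fun e => hv1 (Subtype.ext e)
  have h2 := Perm.two_le_card_support_of_ne_one hne1
  rcases (show (v : Perm (Fin 7)).support.card = 2 ∨ (v : Perm (Fin 7)).support.card = 3 by omega) with e | e
  · have hs := Perm.mem_alternatingGroup.1 v.2
    rw [(Perm.card_support_eq_two.1 e).sign_eq] at hs
    exact absurd hs (by decide)
  · have ho := (card_support_eq_three_iff.1 e).orderOf
    have hd : orderOf (v : Perm (Fin 7)) ∣ 4 := orderOf_dvd_of_pow_eq_one (by
      rw [← Subgroup.coe_pow, h4 v hv]; rfl)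
    rw [ho] at hd
    norm_num at hd

theorem not_elementary_eight (K : Subgroup A7) (hK : Nat.card K = 8) (hsq : ∀ k ∈ K, k * k = 1) : False := by
  haveI : Fact (Nat.Prime 2) := ⟨Nat.prime_two⟩
  let g : A7 := ⟨swap 0 1 * swap 1 2 * swap 2 3 * swap 4 5, by rw [Perm.mem_alternatingGroup]; decide⟩
  have hg4 : g ^ 4 = 1 := by decide +kernel
  have hg2 : g * g ≠ 1 := by decide +kernel
  have hfac : (Nat.card A7).factorization 2 = 3 := by
    rw [card_A7, show (2520 : ℕ) = 2 ^ 3 * 315 by norm_num, Nat.factorization_mul (by norm_num) (by norm_num),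
      Finsupp.add_apply, Nat.Prime.factorization_pow Nat.prime_two, Finsupp.single_eq_same,
      Nat.factorization_eq_zero_of_not_dvd (by norm_num : ¬ 2 ∣ 315), add_zero]
  let P : Sylow 2 A7 := Sylow.ofCard K (by rw [hK, hfac]; norm_num)
  have hp : IsPGroup 2 (zpowers g) := by
    obtain ⟨m, -, hm⟩ := (Nat.dvd_prime_pow Nat.prime_two).1
      (show orderOf g ∣ 2 ^ 2 from orderOf_dvd_of_pow_eq_one hg4)
    exact IsPGroup.of_card (n := m) (by rw [Nat.card_zpowers, hm])
  obtain ⟨Q, hQ⟩ := hp.exists_le_sylow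
  obtain ⟨c, rfl⟩ := MulAction.exists_smul_eq A7 P Q
  have hmem : g ∈ ((c • P : Sylow 2 A7) : Subgroup A7) := hQ (mem_zpowers g)
  rw [Sylow.coe_subgroup_smul, Subgroup.mem_pointwise_smul_iff_inv_smul_mem] at hmem
  have hk := hsq _ hmem
  simp only [MulAut.smul_def, MulAut.inv_apply, MulAut.conj_symm_apply] at hk
  apply hg2
  have : c⁻¹ * (g * g) * c = 1 := by rw [← hk]; group
  calc g * g = c * (c⁻¹ * (g * g) * c) * c⁻¹ := by group
    _ = 1 := by rw [this, mul_one, mul_inv_cancel]

end M23A7
end H62
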